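import Cfsg.Prelude.Def_GeometricClasses

/-!
# S2499, task COV-EKILL

An element `t` of order prime to the prime `r` normalising a field of matrices of degree `r` centralises it, so the
dimension of the kernel of every polynomial in `t` is divisible by `r`.
-/

set_option autoImplicit false

namespace Cfsg.Agent.H906.Cov

open Cfsg Cfsg.Geo
open scoped MatrixGroups

universe u

variable {ι : Type} [Fintype ι] [DecidableEq ι] {F : Type u} [Field F]

theorem isField_of [Nonempty ι] {r : ℕ} {E : Subalgebra F (Matrix ι ι F)} (hE : IsFieldSubalgebra r E) : IsField E where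
  exists_pair_ne := exists_pair_ne E
  mul_comm x y := Subtype.ext (hE.comm x x.2 y y.2)
  mul_inv_cancel {x} hx := by
    obtain ⟨y, hy, hxy⟩ := hE.inv x x.2 (fun h => hx (Subtype.ext h))
    exact ⟨⟨y, hy⟩, Subtype.ext hxy⟩

/-- conjugation by an element of the normaliser -/
def conjE {E : Subalgebra F (Matrix ι ι F)} {t : GL ι F} (ht : t ∈ subalgebraNormalizer E) : E →ₐ[F] E where
  toFun x := ⟨(t : Matrix ι ι F) * x * ((t⁻¹ : GL ι F) : Matrix ι ι F), (ht x).1 x.2⟩
  map_one' := by
    apply Subtype.ext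
    change (t : Matrix ι ι F) * 1 * ((t⁻¹ : GL ι F) : Matrix ι ι F) = 1
    rw [mul_one, ← Units.val_mul, mul_inv_cancel, Units.val_one]
  map_mul' x y := by
    apply Subtype.ext
    change (t : Matrix ι ι F) * (x * y) * ((t⁻¹ : GL ι F) : Matrix ι ι F) =
      ((t : Matrix ι ι F) * x * ((t⁻¹ : GL ι F) : Matrix ι ι F)) * ((t : Matrix ι ι F) * y * ((t⁻¹ : GL ι F) : Matrix ι ι F))
    have h : ((t⁻¹ : GL ι F) : Matrix ι ι F) * (t : Matrix ι ι F) = 1 := by
      rw [← Units.val_mul, inv_mul_cancel, Units.val_one]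
    calc (t : Matrix ι ι F) * (x * y) * ((t⁻¹ : GL ι F) : Matrix ι ι F)
        = (t : Matrix ι ι F) * x * 1 * y * ((t⁻¹ : GL ι F) : Matrix ι ι F) := by simp only [mul_one, mul_assoc]
      _ = _ := by rw [← h]; simp only [mul_assoc]
  map_zero' := by
    apply Subtype.ext
    change (t : Matrix ι ι F) * 0 * ((t⁻¹ : GL ι F) : Matrix ι ι F) = 0
    simp
  map_add' x y := by
    apply Subtype.ext
    change (t : Matrix ι ι F) * (x + y) * ((t⁻¹ : GL ι F) : Matrix ι ι F) =
      (t : Matrix ι ι F) * x * ((t⁻¹ : GL ι F) : Matrix ι ι F) + (t : Matrix ι ι F) * y * ((t⁻¹ : GL ι F) : Matrix ι ι F)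
    rw [mul_add, add_mul]
  commutes' c := by
    apply Subtype.ext
    change (t : Matrix ι ι F) * (algebraMap F (Matrix ι ι F) c) * ((t⁻¹ : GL ι F) : Matrix ι ι F) =
      algebraMap F (Matrix ι ι F) c
    rw [← Algebra.commutes, mul_assoc, ← Units.val_mul, mul_inv_cancel, Units.val_one, mul_one]

theorem conjE_coe {E : Subalgebra F (Matrix ι ι F)} {t : GL ι F} (ht : t ∈ subalgebraNormalizer E) (x : E) :
    ((conjE ht x : E) : Matrix ι ι F) = (t : Matrix ι ι F) * x * ((t⁻¹ : GL ι F) : Matrix ι ι F) := rfl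

/-- `t` centralises the field -/
theorem commute_of_coprime [Finite F] [Nonempty ι] {r : ℕ} {E : Subalgebra F (Matrix ι ι F)}
    (hE : IsFieldSubalgebra r E) {t : GL ι F} (ht : t ∈ subalgebraNormalizer E)
    (hco : Nat.Coprime (orderOf t) r) (x : Matrix ι ι F) (hx : x ∈ E) : (t : Matrix ι ι F) * x = x * t := by
  let _ : Field E := (isField_of hE).toField
  have hfin : Finite E := Module.finite_of_finite F
  have hinj : Function.Injective (conjE ht) := (conjE ht).toRingHom.injective
  let φ : E ≃ₐ[F] E := AlgEquiv.ofBijective (conjE ht) (Finite.injective_iff_bijective.1 hinj)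
  have hφ : ∀ y : E, ((φ y : E) : Matrix ι ι F) = (t : Matrix ι ι F) * y * ((t⁻¹ : GL ι F) : Matrix ι ι F) := fun y => rfl
  have hpow : ∀ (k : ℕ) (y : E), (((φ ^ k) y : E) : Matrix ι ι F) =
      ((t ^ k : GL ι F) : Matrix ι ι F) * y * (((t ^ k)⁻¹ : GL ι F) : Matrix ι ι F) := by
    intro k
    induction k with
    | zero => intro y; simp
    | succ k ih =>
      intro y
      rw [pow_succ, AlgEquiv.mul_apply, ih, hφ, pow_succ, mul_inv_rev, Units.val_mul, Units.val_mul]
      simp only [mul_assoc]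
  have h1 : φ ^ orderOf t = 1 := by
    ext y
    rw [hpow, pow_orderOf_eq_one]
    simp
  have hcard : Nat.card (E ≃ₐ[F] E) = r := by
    rw [IsGalois.card_aut_eq_finrank F E, hE.finrank_eq]
  have h2 : orderOf φ ∣ r := hcard ▸ orderOf_dvd_natCard φ
  have h3 : orderOf φ ∣ orderOf t := orderOf_dvd_of_pow_eq_one h1
  have h4 : orderOf φ = 1 := Nat.dvd_one.1 (hco ▸ Nat.dvd_gcd h3 h2)
  have h5 : φ = 1 := orderOf_eq_one_iff.1 h4
  have h6 : (t : Matrix ι ι F) * x * ((t⁻¹ : GL ι F) : Matrix ι ι F) = x := by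
    rw [← hφ ⟨x, hx⟩, h5]
    rfl
  calc (t : Matrix ι ι F) * x = (t : Matrix ι ι F) * x * (((t⁻¹ : GL ι F) : Matrix ι ι F) * (t : Matrix ι ι F)) := by
        rw [← Units.val_mul, inv_mul_cancel, Units.val_one, mul_one]
    _ = x * t := by rw [← mul_assoc, h6]

/-- the dimension of an `E`-invariant subspace is divisible by the degree of `E` -/
theorem dvd_finrank_of_invariant [Nonempty ι] {r : ℕ} {E : Subalgebra F (Matrix ι ι F)}
    (hE : IsFieldSubalgebra r E) (W : Submodule F (ι → F))
    (hW : ∀ x ∈ E, ∀ v ∈ W, Matrix.mulVec x v ∈ W) : r ∣ Module.finrank F W := by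
  let _ : Field E := (isField_of hE).toField
  let W' : Submodule E (ι → F) :=
    { carrier := W
      add_mem' := fun ha hb => W.add_mem ha hb
      zero_mem' := W.zero_mem
      smul_mem' := fun x v hv => hW x x.2 v hv }
  have hfree : Module.Free E W' := Module.Free.of_divisionRing E W'
  have h1 := Module.finrank_mul_finrank F E W'
  rw [hE.finrank_eq] at h1
  have h2 : Module.finrank F W' = Module.finrank F W := rfl
  exact ⟨_, by rw [← h2, h1]⟩

/-- **COV-EKILL** -/
theorem ext_dvd [Finite F] {r : ℕ} (_ : r.Prime)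
    {E : Subalgebra F (Matrix ι ι F)} (hE : IsFieldSubalgebra r E) {t : GL ι F} (ht : t ∈ subalgebraNormalizer E)
    (hco : Nat.Coprime (orderOf t) r) (P : Polynomial F) :
    r ∣ Module.finrank F (LinearMap.ker (Polynomial.aeval (Matrix.toLin' (t : Matrix ι ι F)) P)) := by
  rcases isEmpty_or_nonempty ι with h0 | h0
  · have : Module.finrank F (LinearMap.ker (Polynomial.aeval (Matrix.toLin' (t : Matrix ι ι F)) P)) = 0 := by
      apply Module.finrank_zero_of_subsingleton
    rw [this]
    exact dvd_zero r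
  apply dvd_finrank_of_invariant hE
  intro x hx v hv
  rw [LinearMap.mem_ker] at hv ⊢
  have hc : Commute (Matrix.toLin' x) (Matrix.toLin' (t : Matrix ι ι F)) := by
    have h := commute_of_coprime hE ht hco x hx
    change Matrix.toLin' x ∘ₗ Matrix.toLin' (t : Matrix ι ι F) = Matrix.toLin' (t : Matrix ι ι F) ∘ₗ Matrix.toLin' x
    rw [← Matrix.toLin'_mul, ← Matrix.toLin'_mul, h]
  have hP : ∀ Q : Polynomial F, Commute (Matrix.toLin' x) (Polynomial.aeval (Matrix.toLin' (t : Matrix ι ι F)) Q) := by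
    intro Q
    induction Q using Polynomial.induction_on' with
    | add p q hp hq => rw [map_add]; exact hp.add_right hq
    | monomial n a =>
      rw [Polynomial.aeval_monomial]
      exact (Algebra.commute_algebraMap_right a _).mul_right (hc.pow_right n)
  have h1 := congrArg (fun f : Module.End F (ι → F) => f v) (hP P).eq
  change Matrix.toLin' x (Polynomial.aeval (Matrix.toLin' (t : Matrix ι ι F)) P v) =
    Polynomial.aeval (Matrix.toLin' (t : Matrix ι ι F)) P (Matrix.toLin' x v) at h1
  rw [hv, map_zero] at h1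
  exact h1.symm

end Cfsg.Agent.H906.Cov
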