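import Cfsg.Agent.H278.Cov.ClDefs
import Cfsg.Agent.H588.ZsigPart
import Cfsg.Agent.Lib.Zsigmondy

/-!
# S2499, task COV-NUM: the numerical hypotheses hold for the primitive part of `q ^ k - 1`
-/

set_option autoImplicit false

namespace Cfsg.Agent.H906.Cov

open Cfsg.Agent.H278.Cov Cfsg.Agent.H588.ZsigPart

/-- a large primitive divisor of `(p ^ a) ^ e - 1` divisible by a primitive prime divisor of `p ^ (a * e) - 1` -/
theorem exists_full {p a e : ℕ} (hp : p.Prime) (ha : 0 < a) (he : 6 ≤ e) (hE : ¬ Exc (p ^ a) e)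
    (h6 : ¬ (p = 2 ∧ a * e = 6)) :
    ∃ m l : ℕ, l.Prime ∧ l ∣ m ∧ m ∣ (p ^ a) ^ e - 1 ∧
      (∀ i : ℕ, 1 ≤ i → i < e → Nat.Coprime m ((p ^ a) ^ i - 1)) ∧ 3 * e + 1 ≤ m ∧
      ∀ k : ℕ, 0 < k → k < a * e → ¬ l ∣ p ^ k - 1 := by
  have hq : 2 ≤ p ^ a := le_trans hp.two_le (Nat.le_self_pow ha.ne' p)
  obtain ⟨m, ⟨hm1, hm2⟩, hm3⟩ := exists_large hq (by omega) hE
  have hae : 6 ≤ a * e := le_trans he (Nat.le_mul_of_pos_left e ha)
  obtain ⟨l, hl, hl2, -⟩ := Lib.Zsigmondy.exists_primitive (a := p) (n := a * e) hp.two_le (by omega)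
    (fun h => by omega) h6
  have hlk : ∀ k : ℕ, 0 < k → k < a * e → ¬ l ∣ p ^ k - 1 := fun k hk hkn h => by
    have := Nat.le_of_dvd hk ((hl2 k).1 h)
    omega
  refine ⟨Nat.lcm m l, l, hl, Nat.dvd_lcm_right m l, ?_, ?_, ?_, hlk⟩
  · apply Nat.lcm_dvd hm1
    rw [← pow_mul]
    exact (hl2 _).2 dvd_rfl
  · intro i hi1 hi2
    have h1 : Nat.Coprime l ((p ^ a) ^ i - 1) := by
      rw [Nat.Prime.coprime_iff_not_dvd hl, ← pow_mul]
      exact hlk _ (Nat.mul_pos ha hi1) (Nat.mul_lt_mul_of_pos_left hi2 ha)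
    exact Nat.Coprime.coprime_dvd_left (Nat.lcm_dvd_mul m l) ((hm2 i hi1 hi2).mul_left h1)
  · have hpos : 0 < Nat.lcm m l := Nat.lcm_pos (by omega) hl.pos
    exact le_trans hm3 (Nat.le_of_dvd hpos (Nat.dvd_lcm_left m l))

theorem sub_of {p A K n l : ℕ} (hp : p.Prime) (hA : 0 < A) (hn : n < 2 * K)
    (hl : ∀ k : ℕ, 0 < k → k < A * K → ¬ l ∣ p ^ k - 1) {q₀ r : ℕ} (hr : r.Prime) (h : p ^ A = q₀ ^ r) {j : ℕ}
    (hj1 : 1 ≤ j) (hj2 : j ≤ n) : ¬ l ∣ q₀ ^ j - 1 := by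
  have h1 : q₀ ∣ p ^ A := by
    rw [h]
    exact dvd_pow_self q₀ hr.ne_zero
  obtain ⟨b, hb, rfl⟩ := (Nat.dvd_prime_pow hp).1 h1
  have h2 : A = b * r := by
    rw [← pow_mul] at h
    exact Nat.pow_right_injective hp.two_le h
  have hb0 : 0 < b := by
    rcases Nat.eq_zero_or_pos b with rfl | h0
    · simp at h2; omega
    · exact h0
  rw [← pow_mul]
  apply hl
  · exact Nat.mul_pos hb0 hj1
  · have h3 : j < r * K := lt_of_lt_of_le (lt_of_le_of_lt hj2 hn) (Nat.mul_le_mul_right K hr.two_le)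
    calc b * j < b * (r * K) := Nat.mul_lt_mul_of_pos_left h3 hb0
      _ = A * K := by rw [h2, mul_assoc]

/-- the primitive part of `q ^ k - 1` satisfies `Num` outside the exceptions of S4423 -/
theorem exists_num {q n k : ℕ} (hq : IsPrimePow q) (hn : 10 ≤ n) (hk : k ≤ n) (hk2 : n < 2 * k)
    (h2 : q = 2 → k ≠ 6 ∧ k ≠ 8 ∧ k ≠ 10 ∧ k ≠ 12 ∧ k ≠ 18 ∧ k ≠ 20)
    (h6 : k = 6 → q ≠ 3 ∧ q ≠ 4 ∧ q ≠ 5) : ∃ m, Num q n k m := by
  obtain ⟨p, a, hp, ha, rfl⟩ := (isPrimePow_nat_iff q).1 hq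
  have hk6 : 6 ≤ k := by omega
  have hE : ¬ Exc (p ^ a) k := by
    intro hE
    simp only [Exc, List.mem_cons, Prod.mk.injEq, List.not_mem_nil, or_false] at hE
    rcases hE with h | h | h | h | h | h | h | h | h | h | h | h | h
    · exact (h2 h.1).1 h.2
    · omega
    · exact (h2 h.1).2.2.1 h.2
    · exact (h2 h.1).2.2.2.1 h.2
    · exact (h2 h.1).2.2.2.2.1 h.2
    · omega
    · exact (h6 h.2).1 h.1
    · exact (h6 h.2).2.2 h.1
    · omega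
    · exact (h2 h.1).2.1 h.2
    · exact (h2 h.1).2.2.2.2.2 h.2
    · omega
    · exact (h6 h.2).2.1 h.1
  have h6' : ¬ (p = 2 ∧ a * k = 6) := by
    rintro ⟨rfl, h⟩
    have ha1 : a = 1 := by
      rcases Nat.lt_or_ge 1 a with h1 | h1
      · exfalso
        have : 2 * k ≤ a * k := Nat.mul_le_mul_right k h1
        omega
      · omega
    subst ha1
    exact (h2 (by norm_num)).1 (by omega)
  obtain ⟨m, l, hl, hlm, hm1, hm2, hm3, hlk⟩ := exists_full hp ha hk6 hE h6'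
  exact ⟨m, ⟨hn, hk, hk2, by omega, hm1, hm2, l, hl, hlm,
    fun q₀ r hr h j hj1 hj2 => sub_of hp ha hk2 hlk hr h hj1 hj2⟩⟩

/-- unitary version: `k` odd, `m ∣ q ^ k + 1` -/
theorem exists_num_u {q n k : ℕ} (hq : IsPrimePow q) (hn : 10 ≤ n) (hk : k ≤ n) (hk2 : n < 2 * k) (hodd : Odd k)
    (h2 : ¬ (q = 2 ∧ k = 9)) : ∃ m, m ∣ q ^ k + 1 ∧ Num (q ^ 2) n k m := by
  obtain ⟨p, a, hp, ha, rfl⟩ := (isPrimePow_nat_iff q).1 hq
  have hk7 : 7 ≤ k := by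
    obtain ⟨c, rfl⟩ := hodd
    omega
  have hE : ¬ Exc (p ^ a) (2 * k) := by
    intro hE
    simp only [Exc, List.mem_cons, Prod.mk.injEq, List.not_mem_nil, or_false] at hE
    obtain ⟨c, rfl⟩ := hodd
    rcases hE with h | h | h | h | h | h | h | h | h | h | h | h | h
    all_goals omega
  have hak : 7 ≤ a * k := le_trans hk7 (Nat.le_mul_of_pos_left k ha)
  have h6' : ¬ (p = 2 ∧ a * (2 * k) = 6) := by
    rintro ⟨rfl, h⟩
    have : a * (2 * k) = 2 * (a * k) := by ring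
    omega
  obtain ⟨m, l, hl, hlm, hm1, hm2, hm3, hlk⟩ := exists_full hp ha (by omega) hE h6'
  have hfac : (p ^ a) ^ (2 * k) - 1 = ((p ^ a) ^ k + 1) * ((p ^ a) ^ k - 1) := by
    have h := Nat.sq_sub_sq ((p ^ a) ^ k) 1
    rw [one_pow, ← pow_mul, mul_comm k 2] at h
    exact h
  have hdiv : m ∣ (p ^ a) ^ k + 1 := by
    rw [hfac] at hm1
    exact (hm2 k (by omega) (by omega)).dvd_of_dvd_mul_right hm1
  have hpow : ∀ i : ℕ, ((p ^ a) ^ 2) ^ i = (p ^ a) ^ (2 * i) := fun i => (pow_mul _ 2 i).symm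
  refine ⟨m, hdiv, ⟨hn, hk, hk2, by omega, ?_, ?_, l, hl, hlm, ?_⟩⟩
  · rw [hpow]
    exact hm1
  · intro i hi1 hi2
    rw [hpow]
    exact hm2 _ (by omega) (by omega)
  · intro q₀ r hr h j hj1 hj2
    refine sub_of (A := a * 2) (K := k) hp (by omega) hk2 (fun i hi1 hi2 => hlk i hi1 ?_) hr ?_ hj1 hj2
    · rw [← mul_assoc]; exact hi2
    · rw [pow_mul]; exact h

end Cfsg.Agent.H906.Cov
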